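import Cfsg.Agent.Lib.S3298.Perms13

/-!
S3298: the three nodes of the closure in thirteen points and their exhaustive verification.
-/

set_option autoImplicit false
set_option maxRecDepth 100000

namespace Cfsg.Agent.S3298Lib

/-- node 0 -/
def E0 : List (List Nat) := [[0, 1, 2, 3, 4, 5, 6, 7, 8, 9, 10, 11, 12], [1, 0, 3, 2, 5, 4, 7, 6, 8, 9, 10, 11, 12]]

/-- moved like the central involution -/
def p0 : List Nat := [1, 0, 3, 2, 5, 4, 7, 6, 11, 10, 9, 8, 12]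
/-- the second involution -/
def q0 : List Nat := [7, 6, 5, 4, 3, 2, 1, 0, 11, 10, 9, 8, 12]

/-- node 1 -/
def E1 : List (List Nat) := [[0, 1, 2, 3, 4, 5, 6, 7, 8, 9, 10, 11, 12], [0, 1, 3, 2, 5, 4, 6, 7, 9, 8, 11, 10, 12], [1, 0, 2, 3, 4, 5, 7, 6, 9, 8, 11, 10, 12], [1, 0, 3, 2, 5, 4, 7, 6, 8, 9, 10, 11, 12]]

/-- moved like the central involution -/
def p1 : List Nat := [1, 0, 3, 2, 5, 4, 7, 6, 9, 8, 11, 10, 12]
/-- the second involution -/
def q1 : List Nat := [7, 6, 5, 4, 3, 2, 1, 0, 11, 10, 9, 8, 12]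

/-- node 2 -/
def E2 : List (List Nat) := [[0, 1, 2, 3, 4, 5, 6, 7, 8, 9, 10, 11, 12], [1, 0, 3, 2, 5, 4, 7, 6, 8, 9, 10, 11, 12], [2, 3, 0, 1, 6, 7, 4, 5, 8, 9, 10, 11, 12], [3, 2, 1, 0, 7, 6, 5, 4, 8, 9, 10, 11, 12]]

/-- moved like the central involution -/
def p2 : List Nat := [1, 0, 3, 2, 5, 4, 7, 6, 11, 10, 9, 8, 12]
/-- the second involution -/
def q2 : List Nat := [1, 0, 3, 2, 4, 5, 6, 7, 11, 10, 9, 8, 12]

/-- conjugators into the first child -/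
def g1 : List (List Nat) := [[0, 1, 8, 9, 10, 11, 6, 7, 2, 3, 4, 5, 12], [8, 9, 2, 3, 4, 5, 10, 11, 0, 7, 1, 6, 12], [0, 1, 8, 9, 10, 11, 6, 7, 2, 4, 5, 3, 12]]

/-- conjugators into the second child -/
def g2 : List (List Nat) := [[0, 3, 1, 2, 4, 7, 5, 6, 8, 9, 10, 11, 12], [0, 3, 4, 7, 1, 2, 5, 6, 8, 9, 10, 11, 12], [0, 3, 4, 7, 6, 5, 2, 1, 8, 9, 10, 11, 12], [0, 3, 4, 7, 6, 5, 1, 2, 8, 9, 11, 10, 12]]

/-- `p` is not conjugate to `p * e` (`e ≠ 1`), nor to any `q * e`, within the centraliser. -/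
def sep (E : List (List Nat)) (p q : List Nat) : Bool :=
  (E.all fun e => e == List.range 13 || E.any fun f => movL (cmpL (cmpL p e) f) != movL (cmpL p f)) &&
    E.all fun e => E.any fun f => movL (cmpL (cmpL q e) f) != movL (cmpL p f)

theorem sep_ok : sep E0 p0 q0 = true ∧ sep E1 p1 q1 = true ∧ sep E2 p2 q2 = true := by decide +kernel

theorem node2_ok : srch (E2 ++ [q2]) (leaf E2 []) 13 [] = true := by decide +kernel

theorem node1_ok : srch (E1 ++ [q1]) (leaf E1 []) 13 [] = true := by decide +kernel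

theorem node0_ok : srch (E0 ++ [q0]) (leaf E0 [(g1, E1), (g2, E2)]) 13 [] = true := by decide +kernel

end Cfsg.Agent.S3298Lib
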