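import Cfsg.Agent.Lib.S3298.Engine
import Cfsg.Agent.Lib.S3298.Search13

/-!
S3298: a subgroup isomorphic to the even permutations of thirteen points, or to the stabiliser of the last
point among them, that contains the centralisers of the two extreme classes of involutions and does not fuse
them with the others, is the whole group.
-/

set_option autoImplicit false
set_option maxRecDepth 100000
set_option linter.unusedSectionVars false

namespace Cfsg.Agent.S3298Lib

open Equiv Subgroup

/-- Two transpositions. -/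
def xx : P13 := swap 0 1 * swap 2 3
/-- Four transpositions. -/
def yy : P13 := swap 0 1 * swap 2 3 * (swap 4 5 * swap 6 7)
/-- Six transpositions. -/
def tt : P13 := swap 0 1 * swap 2 3 * (swap 4 5 * swap 6 7) * (swap 8 9 * swap 10 11)

/-- The properties of a representative. -/
def IsRep (r : P13) : Prop :=
  r * r = 1 ∧ r ≠ 1 ∧ Perm.sign r = 1 ∧ swap 0 1 * r = r * swap 0 1 ∧ r 12 = 12

theorem rep_facts : IsRep xx ∧ IsRep yy ∧ IsRep tt ∧
    xx.support.card = 4 ∧ yy.support.card = 8 ∧ tt.support.card = 12 := by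
  unfold IsRep xx yy tt
  decide +kernel

variable {G : Type*} [Group G] [Finite G]

/-- What the closure uses. -/
structure AltIn (G : Type*) [Group G] where
  /-- the permutation group -/
  S : Subgroup P13
  even : ∀ g ∈ S, Perm.sign g = 1
  stab : ∀ g, Perm.sign g = 1 → g 12 = 12 → g ∈ S
  full : ∀ s ∈ S, s 12 ≠ 12 → ∀ g, Perm.sign g = 1 → g ∈ S
  /-- the embedding -/
  emb : ↥S →* G
  inj : Function.Injective emb
  centT : ∀ r : ↥S, r.1 = tt → centralizer ({emb r} : Set G) ≤ emb.range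
  centX : ∀ r : ↥S, r.1 = xx → centralizer ({emb r} : Set G) ≤ emb.range
  notX : ∀ r u : ↥S, r.1 = tt → u.1 = xx → ∀ g : G, g * emb r * g⁻¹ ≠ emb u
  notY : ∀ r u : ↥S, r.1 = tt → u.1 = yy → ∀ g : G, g * emb r * g⁻¹ ≠ emb u

namespace AltIn

variable (A : AltIn G)

theorem mem_rep {r : P13} (h : IsRep r) : r ∈ A.S := A.stab r h.2.2.1 h.2.2.2.2

/-- The central involution. -/
def T : ↥A.S := ⟨tt, A.mem_rep rep_facts.2.2.1⟩

/-- Conjugation of an involution to its representative inside the subgroup. -/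
theorem exists_conj_rep {s : ↥A.S} (hs : s * s = 1) (hs1 : s ≠ 1) {r : P13} (hr : IsRep r)
    (hc : s.1.support.card = r.support.card) :
    ∃ g : ↥A.S, g * s * g⁻¹ = ⟨r, A.mem_rep hr⟩ := by
  obtain ⟨g, hge, hg, hg12⟩ := exists_conj (congrArg Subtype.val hs) hr.1 (fun h => hs1 (Subtype.ext h)) hr.2.1
    (A.even _ s.2) hr.2.2.1 hc hr.2.2.2.1 hr.2.2.2.2
  have hgS : g ∈ A.S := by
    by_cases h : s.1 12 = 12
    · exact A.stab g hge (hg12 h)
    · exact A.full s.1 s.2 h g hge
  exact ⟨⟨g, hgS⟩, Subtype.ext hg⟩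

/-- Being in the subgroup is invariant under conjugation by it. -/
theorem le_of_conj {s u g : ↥A.S} (h : g * s * g⁻¹ = u) (hu : centralizer ({A.emb u} : Set G) ≤ A.emb.range) :
    centralizer ({A.emb s} : Set G) ≤ A.emb.range := by
  intro m hm
  have hm' : A.emb g * m * (A.emb g)⁻¹ ∈ A.emb.range := hu (by
    rw [mem_centralizer_singleton_iff] at hm ⊢
    rw [← h, map_mul, map_mul, map_inv]
    calc A.emb g * m * (A.emb g)⁻¹ * (A.emb g * A.emb s * (A.emb g)⁻¹)
        = A.emb g * (m * A.emb s) * (A.emb g)⁻¹ := by group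
      _ = _ := by rw [hm]; group)
  have := mul_mem (mul_mem (inv_mem (A.emb.mem_range.2 ⟨g, rfl⟩)) hm') (A.emb.mem_range.2 ⟨g, rfl⟩)
  rwa [show (A.emb g)⁻¹ * (A.emb g * m * (A.emb g)⁻¹) * A.emb g = m by group] at this

theorem cent_known {s : ↥A.S} (hs : s * s = 1) (h : s.1.support.card = 4 ∨ s.1.support.card = 12) :
    centralizer ({A.emb s} : Set G) ≤ A.emb.range := by
  have hs1 : s ≠ 1 := by
    rintro rfl
    simp at h
  rcases h with h | h
  · obtain ⟨g, hg⟩ := A.exists_conj_rep hs hs1 rep_facts.1 (h.trans rep_facts.2.2.2.1.symm)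
    exact A.le_of_conj hg (A.centX _ rfl)
  · obtain ⟨g, hg⟩ := A.exists_conj_rep hs hs1 rep_facts.2.2.1 (h.trans rep_facts.2.2.2.2.2.symm)
    exact A.le_of_conj hg (A.centT _ rfl)

theorem holds : Holds A.emb.range (A.emb A.T) := by
  refine ⟨A.centT _ rfl, ?_⟩
  rintro u ⟨s, rfl⟩ ⟨g, hg⟩
  have hT : A.T * A.T = 1 := Subtype.ext rep_facts.2.2.1.1
  have hs : s * s = 1 := A.inj (by
    rw [map_mul, map_one, ← hg]
    calc g * A.emb A.T * g⁻¹ * (g * A.emb A.T * g⁻¹) = g * A.emb (A.T * A.T) * g⁻¹ := by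
          rw [map_mul]; group
      _ = 1 := by rw [hT, map_one, mul_one, mul_inv_cancel])
  have hs1 : s ≠ 1 := by
    rintro rfl
    have h1 : A.emb A.T = 1 := by
      rw [map_one] at hg
      calc A.emb A.T = g⁻¹ * (g * A.emb A.T * g⁻¹) * g := by group
        _ = 1 := by rw [hg, mul_one, inv_mul_cancel]
    exact rep_facts.2.2.1.2.1 (congrArg Subtype.val (A.inj (h1.trans (map_one A.emb).symm)))
  have key : ∀ {r : P13} (hr : IsRep r), s.1.support.card = r.support.card →
      ∃ k : G, k * A.emb A.T * k⁻¹ = A.emb ⟨r, A.mem_rep hr⟩ := by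
    intro r hr hc
    obtain ⟨a, ha⟩ := A.exists_conj_rep hs hs1 hr hc
    refine ⟨A.emb a * g, ?_⟩
    rw [← ha, map_mul, map_mul, map_inv, ← hg]
    group
  rcases (cycleType_invol (congrArg Subtype.val hs) (fun h => hs1 (Subtype.ext h)) (A.even _ s.2)).1 with
    h | h | h
  · obtain ⟨k, hk⟩ := key rep_facts.1 (h.trans rep_facts.2.2.2.1.symm)
    exact absurd hk (A.notX A.T _ rfl rfl k)
  · obtain ⟨k, hk⟩ := key rep_facts.2.1 (h.trans rep_facts.2.2.2.2.1.symm)
    exact absurd hk (A.notY A.T _ rfl rfl k)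
  · obtain ⟨a, ha⟩ := A.exists_conj_rep hs hs1 rep_facts.2.2.1 (h.trans rep_facts.2.2.2.2.2.symm)
    refine ⟨(A.emb a)⁻¹, inv_mem ⟨a, rfl⟩, ?_⟩
    rw [show A.T = a * s * a⁻¹ from ha.symm, map_mul, map_mul, map_inv]
    group

/-- The elements centralising the images of a list of permutations lie in the subgroup. -/
def OK (l : List (List Nat)) : Prop :=
  ∀ m : G, (∀ e : ↥A.S, toL e.1 ∈ l → A.emb e * m = m * A.emb e) → m ∈ A.emb.range

/-- A list of images that is one of an even involution fixing the last point. -/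
def Item (a : List Nat) : Prop := ∃ f : P13, toL f = a ∧ Perm.sign f = 1 ∧ f 12 = 12 ∧ f * f = 1

/-- A node: the hypotheses of the engine on a list. -/
theorem node {E : List (List Nat)} {p q : List Nat} {ch : List (List (List Nat) × List (List Nat))}
    (hE : ∀ e ∈ E, Item e) (hcl : ∀ a ∈ E, ∀ b ∈ E, cmpL a b ∈ E) (h1 : toL 1 ∈ E)
    (hp : Item p) (hpm : movL p = 12) (hpE : ∀ e ∈ E, cmpL e p = cmpL p e)
    (hq : Item q) (hqE : ∀ e ∈ E, cmpL e q = cmpL q e) (hqn : q ∉ E)
    (hsep : sep E p q = true) (hsrch : srch (E ++ [q]) (leaf E ch) 13 [] = true)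
    (hg : ∀ c ∈ ch, ∀ g ∈ c.1, ∃ f : P13, toL f = g ∧ Perm.sign f = 1 ∧ f 12 = 12)
    (hch : ∀ c ∈ ch, A.OK c.2) : A.OK E := by
  have mem : ∀ {a}, Item a → ∃ f : ↥A.S, toL f.1 = a ∧ f * f = 1 := fun ⟨f, hf, h1, h2, h3⟩ =>
    ⟨⟨f, A.stab f h1 h2⟩, hf, Subtype.ext h3⟩
  obtain ⟨P, hP, hP2⟩ := mem hp
  obtain ⟨Q, hQ, hQ2⟩ := mem hq
  let El : Subgroup ↥A.S :=
    { carrier := {e | toL e.1 ∈ E}
      mul_mem' := fun {a b} ha hb => by
        show toL (a.1 * b.1) ∈ E
        rw [toL_mul]; exact hcl _ ha _ hb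
      one_mem' := h1
      inv_mem' := fun {a} ha => by
        obtain ⟨f, hf, hf2⟩ := mem (hE _ ha)
        have : f = a := Subtype.ext (toL_inj hf)
        show toL (a⁻¹).1 ∈ E
        rw [← this, inv_eq_of_mul_eq_one_right hf2, this]; exact ha }
  let EG : Subgroup G := El.map A.emb
  have hEl2 : ∀ e ∈ El, e * e = 1 := fun e he => by
    obtain ⟨f, hf, hf2⟩ := mem (hE _ he)
    rwa [show f = e from Subtype.ext (toL_inj hf)] at hf2
  have comm : ∀ {a b : ↥A.S}, cmpL (toL a.1) (toL b.1) = cmpL (toL b.1) (toL a.1) → a * b = b * a :=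
    fun {a b} h => Subtype.ext (toL_inj (by rw [Subgroup.coe_mul, Subgroup.coe_mul, toL_mul, toL_mul, h]))
  have centI : ∀ {b : ↥A.S}, (∀ e ∈ El, e * b = b * e) → A.emb b ∈ centralizer (EG : Set G) := by
    intro b h
    rw [mem_centralizer_iff]
    rintro _ ⟨e, he, rfl⟩
    rw [← map_mul, ← map_mul, h e he]
  have hPE : ∀ e ∈ El, e * P = P * e := fun e he => comm (by rw [hP]; exact hpE _ he)
  have hQE : ∀ e ∈ El, e * Q = Q * e := fun e he => comm (by rw [hQ]; exact hqE _ he)
  -- conjugation inside keeps the numbers of moved points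
  have hsame : ∀ {e₀ k z : ↥A.S}, (∀ e ∈ El, A.emb e * A.emb k = A.emb k * A.emb e) →
      A.emb k * A.emb P * (A.emb k)⁻¹ = A.emb (z * e₀) → ∀ f ∈ El,
      movL (cmpL (toL (z * e₀).1) (toL f.1)) = movL (cmpL (toL P.1) (toL f.1)) := by
    intro e₀ k z hk h f hf
    have e1 : k * P * k⁻¹ = z * e₀ := A.inj (by simp only [map_mul, map_inv] at h ⊢; exact h)
    have e2 : k * f * k⁻¹ = f := A.inj (by
      rw [map_mul, map_mul, map_inv, ← hk f hf, mul_inv_cancel_right])
    have e3 : z * e₀ * f = k * (P * f) * k⁻¹ := by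
      rw [← e1]
      calc k * P * k⁻¹ * f = k * P * k⁻¹ * (k * f * k⁻¹) := by rw [e2]
        _ = _ := by group
    rw [← toL_mul, ← toL_mul, movL_toL, movL_toL, show (z * e₀).1 * f.1 = k.1 * (P * f).1 * k.1⁻¹ from
      congrArg Subtype.val e3, Perm.card_support_conj]
    rfl
  simp only [sep, Bool.and_eq_true, List.all_eq_true, List.any_eq_true, Bool.or_eq_true, beq_iff_eq,
    bne_iff_ne] at hsep
  have main : centralizer (EG : Set G) ≤ A.emb.range := by
    refine A.holds.cent_le (p := A.emb P) (q := A.emb Q) ?_ ⟨P, rfl⟩ (centI hPE) ?_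
      (by rw [← map_mul, hP2, map_one]) ⟨Q, rfl⟩ (centI hQE) (by rw [← map_mul, hQ2, map_one]) ?_ ?_ ?_ ?_
    · rintro _ ⟨e, he, rfl⟩
      rw [← map_mul, hEl2 e he, map_one]
    · obtain ⟨a, ha⟩ := A.exists_conj_rep hP2 (fun h => by
          rw [h, show toL (1 : ↥A.S).1 = toL 1 from rfl] at hP
          subst hP
          rw [movL_toL] at hpm
          simp at hpm)
        rep_facts.2.2.1 (by rw [← movL_toL, hP, hpm, rep_facts.2.2.2.2.2])
      refine ⟨(A.emb a)⁻¹, ?_⟩
      rw [show A.T = a * P * a⁻¹ from ha.symm, map_mul, map_mul, map_inv]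
      group
    · rintro ⟨e, he, h⟩
      exact hqn (hQ ▸ (A.inj h ▸ he : Q ∈ El))
    · rintro _ ⟨e, he, rfl⟩ hne _ ⟨k, rfl⟩ hk h
      replace h : A.emb k * A.emb P * (A.emb k)⁻¹ = A.emb (P * e) := by rw [map_mul]; exact h
      rcases hsep.1 _ he with h0 | ⟨f, hf, hne'⟩
      · refine hne ?_
        rw [show e = 1 from Subtype.ext (toL_inj (h0.trans (show List.range 13 = toL (1 : P13) by decide +kernel))), map_one]
      · obtain ⟨f', hf', -⟩ := mem (hE f hf)
        have := hsame (fun e' he' => mem_centralizer_iff.1 hk _ ⟨e', he', rfl⟩) h f' (hf'.symm ▸ hf :)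
        rw [Subgroup.coe_mul, toL_mul, hf', hP] at this
        exact hne' this
    · rintro _ ⟨e, he, rfl⟩ _ ⟨k, rfl⟩ hk h
      replace h : A.emb k * A.emb P * (A.emb k)⁻¹ = A.emb (Q * e) := by rw [map_mul]; exact h
      obtain ⟨f, hf, hne'⟩ := hsep.2 _ he
      obtain ⟨f', hf', -⟩ := mem (hE f hf)
      have := hsame (fun e' he' => mem_centralizer_iff.1 hk _ ⟨e', he', rfl⟩) h f' (hf'.symm ▸ hf :)
      rw [Subgroup.coe_mul, toL_mul, hf', hP, hQ] at this
      exact hne' this
    · rintro _ ⟨s, rfl⟩ hs2 hsn hsE hsQ m hmE hms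
      have hs : s * s = 1 := A.inj (by rw [map_mul, hs2, map_one])
      have hse : ∀ e ∈ El, e * s = s * e := fun e he =>
        A.inj (by rw [map_mul, map_mul]; exact mem_centralizer_iff.1 hsE _ ⟨e, he, rfl⟩)
      have hsq : Q * s = s * Q := A.inj (by rw [map_mul, map_mul, hsQ])
      have hme : ∀ e ∈ El, A.emb e * m = m * A.emb e := fun e he => mem_centralizer_iff.1 hmE _ ⟨e, he, rfl⟩
      obtain ⟨gl, hgl, hgc⟩ : ∃ gl : List P13, gl.map toL = E ++ [q] ∧ ∀ g ∈ gl, g * s.1 = s.1 * g := by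
        choose F hF using fun e : {e // e ∈ E} => mem (hE e.1 e.2)
        refine ⟨E.attach.map (fun e => (F e).1) ++ [Q.1], ?_, fun g hg => ?_⟩
        · rw [List.map_append, List.map_map,
            show toL ∘ (fun e => (F e).1) = fun e : {e // e ∈ E} => e.1 from funext fun e => (hF e).1,
            List.attach_map_subtype_val, List.map_singleton, hQ]
        · rcases List.mem_append.1 hg with h | h
          · obtain ⟨e, -, rfl⟩ := List.mem_map.1 h
            exact congrArg Subtype.val (hse (F e) (show toL (F e).1 ∈ E by rw [(hF e).1]; exact e.2))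
          · rw [List.mem_singleton] at h
            subst h
            exact congrArg Subtype.val hsq
      have hl := srch_sound (congrArg Subtype.val hs) hgc 13 le_rfl
        (by rw [hgl, Nat.sub_self, List.take_zero]; exact hsrch)
      simp only [leaf, Bool.or_eq_true, bne_iff_ne, List.contains_iff_mem, List.any_eq_true, List.all_eq_true,
        beq_iff_eq, List.mem_append, List.mem_map] at hl
      rcases hl with ((h | h) | ⟨e, he, h⟩) | ⟨c, hc, g, hgm, hall⟩
      · exfalso
        have hs1 : s.1 ≠ 1 := fun h' => hsn ⟨1, El.one_mem, by rw [show s = 1 from Subtype.ext h']⟩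
        rw [movL_toL] at h
        rcases (cycleType_invol (congrArg Subtype.val hs) hs1 (A.even _ s.2)).1 with h' | h' | h' <;>
          rw [h'] at h <;> exact h rfl
      · exact absurd ⟨s, h, rfl⟩ hsn
      · obtain ⟨f, hf, hf2⟩ := mem (hE e he)
        have hfE : f ∈ El := show toL f.1 ∈ E by rw [hf]; exact he
        refine A.cent_known (s := s * f) ?_ ?_ ?_
        · rw [mul_assoc, ← mul_assoc f, hse f hfE, mul_assoc s, hf2, mul_one, hs]
        · rw [← movL_toL, Subgroup.coe_mul, toL_mul, hf]; exact h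
        · rw [mem_centralizer_singleton_iff, map_mul, ← mul_assoc, hms, mul_assoc, ← hme f hfE, ← mul_assoc]
      · obtain ⟨γ, hγ, hγe, hγ12⟩ := hg c hc g hgm
        let γ' : ↥A.S := ⟨γ, A.stab γ hγe hγ12⟩
        have := hch c hc (A.emb γ' * m * (A.emb γ')⁻¹) ?_
        · have h' := mul_mem (mul_mem (inv_mem (A.emb.mem_range.2 ⟨γ', rfl⟩)) this) (A.emb.mem_range.2 ⟨γ', rfl⟩)
          rwa [show (A.emb γ')⁻¹ * (A.emb γ' * m * (A.emb γ')⁻¹) * A.emb γ' = m by group] at h'
        intro e he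
        obtain ⟨fl, hfl, hfe⟩ := hall _ he
        obtain ⟨u, hu, hum⟩ : ∃ u : ↥A.S, toL u.1 = fl ∧ A.emb u * m = m * A.emb u := by
          rcases hfl with h | ⟨a, ha, rfl⟩
          · obtain ⟨f, hf, -⟩ := mem (hE fl h)
            exact ⟨f, hf, hme f (show toL f.1 ∈ E by rw [hf]; exact h)⟩
          · obtain ⟨f, hf, -⟩ := mem (hE a ha)
            refine ⟨s * f, by rw [Subgroup.coe_mul, toL_mul, hf], ?_⟩
            rw [map_mul, mul_assoc, hme f (show toL f.1 ∈ E by rw [hf]; exact ha), ← mul_assoc, ← hms,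
              mul_assoc]
        have e1 : γ' * u = e * γ' := Subtype.ext (toL_inj (by
          rw [Subgroup.coe_mul, Subgroup.coe_mul, toL_mul, toL_mul, hu, show toL γ'.1 = g from hγ]; exact hfe))
        have e2 : A.emb γ' * A.emb u = A.emb e * A.emb γ' := by rw [← map_mul, ← map_mul, e1]
        calc A.emb e * (A.emb γ' * m * (A.emb γ')⁻¹)
            = A.emb e * A.emb γ' * m * (A.emb γ')⁻¹ := by group
          _ = A.emb γ' * (A.emb u * m) * (A.emb γ')⁻¹ := by rw [← e2]; group
          _ = A.emb γ' * m * (A.emb γ')⁻¹ * (A.emb γ' * A.emb u * (A.emb γ')⁻¹) := by rw [hum]; group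
          _ = _ := by rw [e2, mul_inv_cancel_right]
  intro m hm
  refine main (mem_centralizer_iff.2 ?_)
  rintro _ ⟨e, he, rfl⟩
  exact hm e he

/-- A permutation from a list of images and the list of the inverse. -/
def mkP (l k : List Nat)
    (h : ∀ i : Fin 13, (Fin.ofNat 13 (k.getD (Fin.ofNat 13 (l.getD i.val 0)).val 0)) = i ∧
      (Fin.ofNat 13 (l.getD (Fin.ofNat 13 (k.getD i.val 0)).val 0)) = i) : P13 :=
  ⟨fun i => Fin.ofNat 13 (l.getD i.val 0), fun i => Fin.ofNat 13 (k.getD i.val 0), fun i => (h i).1,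
    fun i => (h i).2⟩

theorem mkItem (l : List Nat) (h : ∀ i : Fin 13, (Fin.ofNat 13 (l.getD (Fin.ofNat 13 (l.getD i.val 0)).val 0)) = i ∧
      (Fin.ofNat 13 (l.getD (Fin.ofNat 13 (l.getD i.val 0)).val 0)) = i)
    (h' : toL (mkP l l h) = l ∧ Perm.sign (mkP l l h) = 1 ∧ mkP l l h 12 = 12 ∧ mkP l l h * mkP l l h = 1) :
    Item l :=
  ⟨mkP l l h, h'⟩

theorem E0_items : ∀ e ∈ E0, Item e := by
  simp only [E0, List.forall_mem_cons, List.not_mem_nil, IsEmpty.forall_iff, implies_true, and_true]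
  constructor <;> exact mkItem _ (by decide +kernel) (by decide +kernel)

theorem E1_items : ∀ e ∈ E1, Item e := by
  simp only [E1, List.forall_mem_cons, List.not_mem_nil, IsEmpty.forall_iff, implies_true, and_true]
  refine ⟨?_, ?_, ?_, ?_⟩ <;> exact mkItem _ (by decide +kernel) (by decide +kernel)

theorem E2_items : ∀ e ∈ E2, Item e := by
  simp only [E2, List.forall_mem_cons, List.not_mem_nil, IsEmpty.forall_iff, implies_true, and_true]
  refine ⟨?_, ?_, ?_, ?_⟩ <;> exact mkItem _ (by decide +kernel) (by decide +kernel)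

/-- The lists of the inverses of the conjugators. -/
def invL (l : List Nat) : List Nat := (List.range 13).map l.idxOf

theorem mkConj {g : List Nat} (h : ∀ i : Fin 13, (Fin.ofNat 13 ((invL g).getD (Fin.ofNat 13 (g.getD i.val 0)).val 0)) = i ∧
      (Fin.ofNat 13 (g.getD (Fin.ofNat 13 ((invL g).getD i.val 0)).val 0)) = i)
    (h' : toL (mkP g (invL g) h) = g ∧ Perm.sign (mkP g (invL g) h) = 1 ∧ mkP g (invL g) h 12 = 12) :
    ∃ f : P13, toL f = g ∧ Perm.sign f = 1 ∧ f 12 = 12 :=
  ⟨mkP g (invL g) h, h'⟩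

theorem g_items : ∀ g ∈ g1 ++ g2, ∃ f : P13, toL f = g ∧ Perm.sign f = 1 ∧ f 12 = 12 := by
  simp only [g1, g2, List.cons_append, List.nil_append, List.forall_mem_cons, List.not_mem_nil,
    IsEmpty.forall_iff, implies_true, and_true]
  refine ⟨?_, ?_, ?_, ?_, ?_, ?_, ?_⟩ <;> exact mkConj (by decide +kernel) (by decide +kernel)

theorem ok2 : A.OK E2 :=
  A.node E2_items (by decide +kernel) (by decide +kernel) (p := p2)
    (mkItem _ (by decide +kernel) (by decide +kernel)) (by decide +kernel) (by decide +kernel)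
    (mkItem _ (by decide +kernel) (by decide +kernel)) (by decide +kernel) (by decide +kernel)
    sep_ok.2.2 node2_ok (fun _ h => absurd h List.not_mem_nil) (fun _ h => absurd h List.not_mem_nil)

theorem ok1 : A.OK E1 :=
  A.node E1_items (by decide +kernel) (by decide +kernel) (p := p1)
    (mkItem _ (by decide +kernel) (by decide +kernel)) (by decide +kernel) (by decide +kernel)
    (mkItem _ (by decide +kernel) (by decide +kernel)) (by decide +kernel) (by decide +kernel)
    sep_ok.2.1 node1_ok (fun _ h => absurd h List.not_mem_nil) (fun _ h => absurd h List.not_mem_nil)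

theorem ok0 : A.OK E0 :=
  A.node E0_items (by decide +kernel) (by decide +kernel) (p := p0)
    (mkItem _ (by decide +kernel) (by decide +kernel)) (by decide +kernel) (by decide +kernel)
    (mkItem _ (by decide +kernel) (by decide +kernel)) (by decide +kernel) (by decide +kernel)
    sep_ok.1 node0_ok
    (by
      intro c hc g hg
      refine g_items g (List.mem_append.2 ?_)
      simp only [List.mem_cons, List.not_mem_nil, or_false] at hc
      rcases hc with rfl | rfl
      · exact Or.inl hg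
      · exact Or.inr hg)
    (by
      intro c hc
      simp only [List.mem_cons, List.not_mem_nil, or_false] at hc
      rcases hc with rfl | rfl
      · exact A.ok1
      · exact A.ok2)

theorem cent_invol {s : ↥A.S} (hs : s * s = 1) (hs1 : s ≠ 1) :
    centralizer ({A.emb s} : Set G) ≤ A.emb.range := by
  rcases (cycleType_invol (congrArg Subtype.val hs) (fun h => hs1 (Subtype.ext h)) (A.even _ s.2)).1 with
    h | h | h
  · exact A.cent_known hs (Or.inl h)
  · obtain ⟨g, hg⟩ := A.exists_conj_rep hs hs1 rep_facts.2.1 (h.trans rep_facts.2.2.2.2.1.symm)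
    refine A.le_of_conj hg fun m hm => A.ok0 m fun e he => ?_
    rw [mem_centralizer_singleton_iff] at hm
    have : toL e.1 = toL 1 ∨ toL e.1 = toL yy := by
      have : E0 = [toL 1, toL yy] := by decide +kernel
      rw [this] at he
      simpa using he
    rcases this with h | h
    · rw [show e = 1 from Subtype.ext (toL_inj h), map_one, one_mul, mul_one]
    · rw [show e = ⟨yy, A.mem_rep rep_facts.2.1⟩ from Subtype.ext (toL_inj h), hm]
  · exact A.cent_known hs (Or.inr h)

/-- The subgroup is the whole group. -/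
theorem range_eq_top : A.emb.range = ⊤ := by
  let x : ↥A.S := ⟨xx, A.mem_rep rep_facts.1⟩
  have hx : x * x = 1 := Subtype.ext rep_facts.1.1
  have hT : A.T * A.T = 1 := Subtype.ext rep_facts.2.2.1.1
  refine top_le_iff.1 fun m _ => ?_
  refine A.holds.cent_le (E := ⊥) (p := A.emb A.T) (q := A.emb x) ?_ ⟨_, rfl⟩ ?_ ⟨1, by simp⟩
    (by rw [← map_mul, hT, map_one]) ⟨_, rfl⟩ ?_ (by rw [← map_mul, hx, map_one]) ?_ ?_ ?_ ?_
    (mem_centralizer_iff.2 fun e he => by rw [mem_bot.1 he, one_mul, mul_one])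
  · exact fun e he => by rw [mem_bot.1 he, mul_one]
  · exact mem_centralizer_iff.2 fun e he => by rw [mem_bot.1 he, one_mul, mul_one]
  · exact mem_centralizer_iff.2 fun e he => by rw [mem_bot.1 he, one_mul, mul_one]
  · intro h
    have : x = 1 := A.inj ((mem_bot.1 h).trans (map_one A.emb).symm)
    exact rep_facts.1.2.1 (congrArg Subtype.val this)
  · exact fun e he hne => absurd (mem_bot.1 he) hne
  · intro e he k _ _ h
    rw [mem_bot.1 he, mul_one] at h
    exact A.notX A.T x rfl rfl k h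
  · rintro _ ⟨s, rfl⟩ hs2 hsn _ _ m' _ hm'
    refine A.cent_invol (A.inj (by rw [map_mul, hs2, map_one])) ?_ (mem_centralizer_singleton_iff.2 hm')
    rintro rfl
    exact hsn (mem_bot.2 (map_one A.emb))

/-- The whole group is the permutation group. -/
noncomputable def iso : ↥A.S ≃* G :=
  MulEquiv.ofBijective A.emb ⟨A.inj, MonoidHom.range_eq_top.1 A.range_eq_top⟩

end AltIn

end Cfsg.Agent.S3298Lib
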