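import Mathlib.GroupTheory.OrderOfElement
import Mathlib.GroupTheory.Subgroup.Centralizer
import Mathlib.Tactic.Group

/-!
S3298: a subgroup containing the centraliser of an involution `t` and fusing `t` like the whole group
contains the centraliser of an elementary abelian subgroup, given two suitable involutions.

No strong embedding and no order formula: the product of a conjugate of the first involution with the
second has even order modulo the subgroup, and the central involution leads back inside.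
-/

set_option autoImplicit false

namespace Cfsg.Agent.S3298Lib

open Subgroup

variable {G : Type*} [Group G]

/-- The two hypotheses on `X`. -/
structure Holds (X : Subgroup G) (t : G) : Prop where
  cent : centralizer ({t} : Set G) ≤ X
  fused : ∀ u ∈ X, (∃ g, g * t * g⁻¹ = u) → ∃ y ∈ X, y * t * y⁻¹ = u

theorem Holds.t_mem {X : Subgroup G} {t : G} (h : Holds X t) : t ∈ X :=
  h.cent (mem_centralizer_singleton_iff.2 rfl)

/-- Moving a conjugate of `t` inside `X` only happens inside `X`. -/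
theorem Holds.mem_of_conj {X : Subgroup G} {t p m : G} (h : Holds X t) (hp : p ∈ X)
    (hpt : ∃ g, g * t * g⁻¹ = p) (hm : m * p * m⁻¹ ∈ X) : m ∈ X := by
  obtain ⟨y, hy, rfl⟩ := h.fused p hp hpt
  obtain ⟨y', hy', e⟩ := h.fused _ hm ⟨m * y, by group⟩
  have hc : y'⁻¹ * (m * y) ∈ centralizer ({t} : Set G) := by
    rw [mem_centralizer_singleton_iff]
    calc y'⁻¹ * (m * y) * t = y'⁻¹ * (m * (y * t * y⁻¹) * m⁻¹) * (m * y) := by group
      _ = y'⁻¹ * (y' * t * y'⁻¹) * (m * y) := by rw [e]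
      _ = _ := by group
  have := mul_mem (mul_mem hy' (h.cent hc)) (inv_mem hy)
  rwa [show y' * (y'⁻¹ * (m * y)) * y⁻¹ = m by group] at this

variable [Finite G]

/-- The step: `C(E) ≤ X`. -/
theorem Holds.cent_le {X E : Subgroup G} {t p q : G} (h : Holds X t)
    (hE : ∀ e ∈ E, e * e = 1)
    (hpX : p ∈ X) (hpE : p ∈ centralizer (E : Set G)) (hpt : ∃ g, g * t * g⁻¹ = p) (hp2 : p * p = 1)
    (hqX : q ∈ X) (hqE : q ∈ centralizer (E : Set G)) (hq2 : q * q = 1) (hqn : q ∉ E)
    (hp : ∀ e ∈ E, e ≠ 1 → ∀ k ∈ X, k ∈ centralizer (E : Set G) → k * p * k⁻¹ ≠ p * e)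
    (hq : ∀ e ∈ E, ∀ k ∈ X, k ∈ centralizer (E : Set G) → k * p * k⁻¹ ≠ q * e)
    (hv : ∀ v ∈ X, v * v = 1 → v ∉ E → v ∈ centralizer (E : Set G) → v * q = q * v →
      ∀ m ∈ centralizer (E : Set G), m * v = v * m → m ∈ X) :
    centralizer (E : Set G) ≤ X := by
  intro m hm
  have hEc : ∀ {a}, a ∈ centralizer (E : Set G) → ∀ e ∈ E, e * a = a * e := fun ha e he =>
    mem_centralizer_iff.1 ha e he
  obtain ⟨p', hp'⟩ : ∃ p', p' = m * p * m⁻¹ := ⟨_, rfl⟩
  have hp'E : p' ∈ centralizer (E : Set G) := hp' ▸ mul_mem (mul_mem hm hpE) (inv_mem hm)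
  have hp'2 : p' * p' = 1 := by
    rw [hp', show m * p * m⁻¹ * (m * p * m⁻¹) = m * (p * p) * m⁻¹ by group, hp2, mul_one, mul_inv_cancel]
  obtain ⟨a, ha⟩ : ∃ a, a = p' * q := ⟨_, rfl⟩
  have haE : a ∈ centralizer (E : Set G) := ha ▸ mul_mem hp'E hqE
  have hpa : p' * a * p'⁻¹ = a⁻¹ := by
    rw [ha, mul_inv_rev, inv_eq_of_mul_eq_one_right hp'2, inv_eq_of_mul_eq_one_right hq2,
      ← mul_assoc p' p' q, hp'2, one_mul]
  have hqa : q * a * q⁻¹ = a⁻¹ := by
    rw [ha, mul_inv_rev, inv_eq_of_mul_eq_one_right hp'2, inv_eq_of_mul_eq_one_right hq2,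
      mul_assoc q, mul_assoc p', hq2, mul_one]
  have conj_pow' : ∀ j : ℕ, a ^ j * p' * (a ^ j)⁻¹ = a ^ (2 * j) * p' := fun j => by
    have h1 : p' * (a ^ j)⁻¹ * p'⁻¹ = a ^ j := by
      rw [← conj_inv, ← conj_pow, hpa, inv_pow, inv_inv]
    calc a ^ j * p' * (a ^ j)⁻¹ = a ^ j * (p' * (a ^ j)⁻¹ * p'⁻¹) * p' := by group
      _ = _ := by rw [h1, two_mul, pow_add]
  have hex : ∃ k, 0 < k ∧ a ^ k ∈ E := ⟨orderOf a, orderOf_pos a, by rw [pow_orderOf_eq_one]; exact one_mem _⟩
  classical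
  obtain ⟨hk0, hkE⟩ := Nat.find_spec hex
  set k := Nat.find hex with hk
  rcases Nat.even_or_odd k with ⟨j, hj⟩ | ⟨j, hj⟩
  swap
  · exfalso
    set e := a ^ k with he
    have hn : (a ^ j * m) * p * (a ^ j * m)⁻¹ = q * e := by
      calc (a ^ j * m) * p * (a ^ j * m)⁻¹ = a ^ j * p' * (a ^ j)⁻¹ := by rw [hp']; group
        _ = a ^ k * a⁻¹ * p' := by rw [conj_pow', hj, pow_succ, mul_inv_cancel_right]
        _ = e * q := by
          rw [← he, ha, mul_inv_rev, inv_eq_of_mul_eq_one_right hp'2, inv_eq_of_mul_eq_one_right hq2,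
            mul_assoc, mul_assoc, hp'2, mul_one]
        _ = q * e := hEc hqE e hkE
    have hnE : a ^ j * m ∈ centralizer (E : Set G) := mul_mem (pow_mem haE _) hm
    have heX : q * e ∈ X := by
      refine mul_mem hqX ?_
      -- `E` lies in `X` as it centralises `p`
      exact h.mem_of_conj hpX hpt (by rw [hEc hpE e hkE, mul_inv_cancel_right]; exact hpX)
    exact hq e hkE _ (h.mem_of_conj hpX hpt (hn ▸ heX)) hnE hn
  set v := a ^ j with hv'
  have hjk : j < k := by omega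
  have hvn : v ∉ E := fun hvE => Nat.find_min hex hjk ⟨by omega, hvE⟩
  have hvE : v ∈ centralizer (E : Set G) := pow_mem haE _
  have hvv : v * v = a ^ k := by rw [hv', ← pow_add, ← hj]
  by_cases he1 : a ^ k = 1
  · rw [he1] at hvv
    have hvi : v⁻¹ = v := inv_eq_of_mul_eq_one_right hvv
    have hvp : v * p' = p' * v := by
      have h1 : p' * v * p'⁻¹ = v := by rw [hv', ← conj_pow, hpa, inv_pow, ← hv', hvi]
      calc v * p' = p' * v * p'⁻¹ * p' := by rw [h1]
        _ = _ := by group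
    have hvq : v * q = q * v := by
      have h1 : q * v * q⁻¹ = v := by rw [hv', ← conj_pow, hqa, inv_pow, ← hv', hvi]
      calc v * q = q * v * q⁻¹ * q := by rw [h1]
        _ = _ := by group
    have hvX : v ∈ X := hv q hqX hq2 hqn hqE rfl v hvE hvq
    exact h.mem_of_conj hpX hpt (hp' ▸ hv v hvX hvv hvn hvE hvq p' hp'E hvp.symm)
  · exfalso
    have hk2 : a ^ k = a ^ (2 * j) := by rw [hj, two_mul]
    set e := a ^ k with he
    have hn : m⁻¹ * v * m * p * (m⁻¹ * v * m)⁻¹ = p * e := by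
      calc m⁻¹ * v * m * p * (m⁻¹ * v * m)⁻¹ = m⁻¹ * (v * p' * v⁻¹) * m := by rw [hp']; group
        _ = m⁻¹ * (e * p') * m := by rw [hv', conj_pow', ← hk2]
        _ = m⁻¹ * e * m * p := by rw [hp']; group
        _ = e * p := by rw [mul_assoc m⁻¹, hEc hm e hkE, inv_mul_cancel_left]
        _ = p * e := hEc hpE e hkE
    have heX : e ∈ X := h.mem_of_conj hpX hpt (by rw [hEc hpE e hkE, mul_inv_cancel_right]; exact hpX)
    exact hp e hkE he1 _ (h.mem_of_conj hpX hpt (hn ▸ mul_mem hpX heX))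
      (mul_mem (mul_mem (inv_mem hm) hvE) hm) hn

end Cfsg.Agent.S3298Lib
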