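import Cfsg.Agent.Lib.S3298.Glue.Build
import Cfsg.Agent.Lib.S3298Sp.Ident

/-!
S3298: the assembly from the local data of the alternating branch.
-/

set_option autoImplicit false

namespace Cfsg.Agent.S3298Lib

open Cfsg

/-- The four alternatives, given the local data in the alternating case. -/
theorem of_local {G : Type*} [Group G] [Finite G] (α : G) (hα : orderOf α = 2) 
    (hC : Nonempty (↥(Subgroup.centralizer ({α} : Set G)) ≃*
      ↥(alternatingGroup (Fin 12) ⊓ Subgroup.centralizer ({(Equiv.swap (0 : Fin 12) 1 * Equiv.swap (2 : Fin 12) 3 * Equiv.swap (4 : Fin 12) 5 * Equiv.swap (6 : Fin 12) 7 * Equiv.swap (8 : Fin 12) 9 * Equiv.swap (10 : Fin 12) 11)} : Set (Equiv.Perm (Fin 12))))))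
    (hloc : ∀ d : S3298Fus.Dat G, (∀ a, d.Fused a ↔ a * a = 1 ∧ S3298Fus.Dat.P27 a.1) → Nonempty (Local d))
    : Nonempty (G ≃* ↥(alternatingGroup (Fin 12))) ∨ Nonempty (G ≃* ↥(alternatingGroup (Fin 13))) ∨
      (∃ (F : Type) (_ : Field F) (_ : Fintype F), Fintype.card F = 2 ∧ Nonempty (G ≃* Cfsg.PSp 3 F)) ∨
      (Cfsg.oddCore G ⊔ Subgroup.centralizer ({α} : Set G) = ⊤ ∧ IsMulCommutative ↥(Cfsg.oddCore G)) := by
  rcases S3298Fus.main α hα hC with h | ⟨d, -, hd⟩ | ⟨d, -, hd⟩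
  · exact Or.inr (Or.inr (Or.inr h))
  · exact Or.inr (Or.inr (Or.inl ⟨ZMod 2, inferInstance, inferInstance, ZMod.card 2,
      S3298Sp.nonempty_iso hd (ZMod.card 2)⟩))
  · obtain ⟨D⟩ := hloc d hd
    rcases alt_of_local hd D with h | h
    · exact Or.inl h
    · exact Or.inr (Or.inl h)

end Cfsg.Agent.S3298Lib
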