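import Mathlib.GroupTheory.Perm.Cycle.Type
import Mathlib.GroupTheory.SpecificGroups.Alternating
import Mathlib.Data.List.OfFn
import Mathlib.Data.List.FinRange

/-!
S3298: involutions of thirteen points - classes among even permutations, lists of images, and the exhaustive
search of the involutions commuting with the elements of the three small elementary subgroups of the closure.
-/

set_option autoImplicit false
set_option maxRecDepth 100000

namespace Cfsg.Agent.S3298Lib

open Equiv

/-- Permutations of thirteen points. -/
abbrev P13 := Perm (Fin 13)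

/-- The list of images. -/
def toL (f : P13) : List Nat := List.ofFn fun i => (f i).val

/-- Composition of lists of images. -/
def cmpL (a b : List Nat) : List Nat := b.map fun i => a.getD i 0

/-- The number of moved points of a list. -/
def movL (a : List Nat) : Nat := (List.range 13).countP fun i => a.getD i 0 != i

theorem toL_length (f : P13) : (toL f).length = 13 := by simp [toL]

theorem toL_getD (f : P13) (i : Fin 13) : (toL f).getD i.val 0 = (f i).val := by
  rw [toL, List.getD_eq_getElem?_getD, List.getElem?_ofFn, dif_pos i.isLt]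
  rfl

theorem toL_mul (f g : P13) : toL (f * g) = cmpL (toL f) (toL g) := by
  unfold cmpL
  conv_rhs => rw [show toL g = List.ofFn fun i => (g i).val from rfl, List.map_ofFn]
  unfold toL
  refine congrArg List.ofFn (funext fun i => ?_)
  exact (toL_getD f (g i)).symm

theorem toL_inj : Function.Injective toL := fun f g h =>
  Equiv.ext fun i => Fin.ext (by rw [← toL_getD f i, ← toL_getD g i, h])

theorem movL_toL (f : P13) : movL (toL f) = f.support.card := by
  have e : List.range 13 = (List.finRange 13).map Fin.val := by decide
  rw [movL, e, List.countP_map,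
    show ((fun i => (toL f).getD i 0 != i) ∘ Fin.val) = fun i : Fin 13 => decide (f i ≠ i) from
      funext fun i => by simp only [Function.comp_apply]; rw [toL_getD]; simp only [bne, beq_eq_decide]; simp [Fin.ext_iff],
    show f.support = Finset.univ.filter fun i => f i ≠ i from rfl]
  simp [Finset.card_def, List.countP_eq_length_filter, Fin.univ_def]

/-- An involution of thirteen points that is even moves 4, 8 or 12 points and has the cycle type of such. -/
theorem cycleType_invol {s : P13} (h : s * s = 1) (h1 : s ≠ 1) (he : Perm.sign s = 1) :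
    (s.support.card = 4 ∨ s.support.card = 8 ∨ s.support.card = 12) ∧
      s.cycleType = Multiset.replicate (s.support.card / 2) 2 := by
  have : Fact (Nat.Prime 2) := ⟨Nat.prime_two⟩
  have hc := Perm.cycleType_of_pow_prime_eq_one (p := 2) (σ := s) (by rw [pow_two, h])
  set k := Multiset.card s.cycleType
  have hs : s.support.card = 2 * k := by
    rw [← Perm.sum_cycleType, hc, Multiset.sum_replicate, smul_eq_mul, mul_comm]
  refine ⟨?_, by rw [hs, Nat.mul_div_cancel_left _ (by norm_num)]; exact hc⟩
  have h13 := Finset.card_le_univ s.support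
  rw [Fintype.card_fin] at h13
  have hk : k ≠ 0 := fun h0 => h1 (Perm.support_eq_empty_iff.1 (Finset.card_eq_zero.1 (by omega)))
  rw [Perm.sign_of_cycleType, hc, Multiset.sum_replicate, smul_eq_mul, Multiset.card_replicate] at he
  have : k = 1 ∨ k = 2 ∨ k = 3 ∨ k = 4 ∨ k = 5 ∨ k = 6 := by omega
  rcases this with h | h | h | h | h | h <;> rw [h] at he <;> first | omega | exact absurd he (by decide)

/-- Conjugation to a representative by an even permutation, fixing the last point if both do. -/
theorem exists_conj {s r : P13} (hs : s * s = 1) (hr : r * r = 1) (hs1 : s ≠ 1) (hr1 : r ≠ 1)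
    (hse : Perm.sign s = 1) (hre : Perm.sign r = 1) (hc : s.support.card = r.support.card)
    (hr01 : swap 0 1 * r = r * swap 0 1) (hr12 : r 12 = 12) :
    ∃ g : P13, Perm.sign g = 1 ∧ g * s * g⁻¹ = r ∧ (s 12 = 12 → g 12 = 12) := by
  have ht : IsConj s r := by
    rw [Perm.isConj_iff_cycleType_eq, (cycleType_invol hs hs1 hse).2, (cycleType_invol hr hr1 hre).2, hc]
  obtain ⟨g₀, hg₀⟩ := isConj_iff.1 ht
  have step : ∀ g c : P13, g * s * g⁻¹ = r → c * r = r * c → c * g * s * (c * g)⁻¹ = r := by
    intro g c hg hcr
    calc c * g * s * (c * g)⁻¹ = c * (g * s * g⁻¹) * c⁻¹ := by group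
      _ = r := by rw [hg, hcr, mul_inv_cancel_right]
  obtain ⟨g, hg, hg12⟩ : ∃ g : P13, g * s * g⁻¹ = r ∧ (s 12 = 12 → g 12 = 12) := by
    by_cases h12 : s 12 = 12
    · refine ⟨swap 12 (g₀ 12) * g₀, step _ _ hg₀ ?_, fun _ => by simp⟩
      have hf : r (g₀ 12) = g₀ 12 := by rw [← hg₀]; simp [h12]
      calc swap 12 (g₀ 12) * r = swap (r 12) (r (g₀ 12)) * r := by rw [hr12, hf]
        _ = r * swap 12 (g₀ 12) := (mul_swap_eq_swap_mul r _ _).symm
    · exact ⟨g₀, hg₀, fun h => absurd h h12⟩
  rcases Int.units_eq_one_or (Perm.sign g) with h | h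
  · exact ⟨g, h, hg, hg12⟩
  · refine ⟨swap 0 1 * g, ?_, step _ _ hg hr01, fun hh => ?_⟩
    · rw [map_mul, Perm.sign_swap (by decide), h]; rfl
    · rw [Perm.mul_apply, hg12 hh]; decide

/-- Consistency of a partial list of images of an involution commuting with the given permutations. -/
def pok (gens : List (List Nat)) (im : List Nat) : Bool :=
  (List.range im.length).all fun i =>
    (decide (im.length ≤ im.getD i 0) || im.getD (im.getD i 0) 0 == i) &&
      gens.all fun g => decide (im.length ≤ g.getD i 0) || im.getD (g.getD i 0) 0 == g.getD (im.getD i 0) 0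

/-- Search over the lists of images. -/
def srch (gens : List (List Nat)) (leaf : List Nat → Bool) : Nat → List Nat → Bool
  | 0, im => leaf im
  | n + 1, im => (List.range 13).all fun c =>
      im.contains c || !pok gens (im ++ [c]) || srch gens leaf n (im ++ [c])

theorem pok_take {gens : List P13} {s : P13} (hs : s * s = 1) (hg : ∀ g ∈ gens, g * s = s * g) {k : Nat}
    (hk : k ≤ 13) : pok (gens.map toL) ((toL s).take k) = true := by
  have hl : ((toL s).take k).length = k := by simp [toL_length, hk]
  have hget : ∀ i : Fin 13, i.val < k → ((toL s).take k).getD i.val 0 = (s i).val := fun i hi => by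
    rw [← toL_getD s i, List.getD_eq_getElem?_getD, List.getD_eq_getElem?_getD, List.getElem?_take_of_lt hi]
  simp only [pok, hl, List.all_eq_true, List.mem_range, Bool.and_eq_true, Bool.or_eq_true,
    decide_eq_true_eq, beq_iff_eq, List.mem_map, forall_exists_index, and_imp]
  intro i hi
  obtain ⟨j, rfl⟩ : ∃ j : Fin 13, i = j.val := ⟨⟨i, by omega⟩, rfl⟩
  rw [hget j hi]
  refine ⟨?_, fun x g hgm hx => ?_⟩
  · rcases le_or_gt k (s j).val with h | h
    · exact Or.inl h
    · right
      rw [hget _ h, ← Perm.mul_apply, hs]
      rfl
  · subst hx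
    rw [toL_getD, toL_getD]
    rcases le_or_gt k (g j).val with h | h
    · exact Or.inl h
    · right
      rw [hget _ h, ← Perm.mul_apply, ← Perm.mul_apply, hg g hgm]

theorem srch_sound {gens : List P13} {leaf : List Nat → Bool} {s : P13} (hs : s * s = 1)
    (hg : ∀ g ∈ gens, g * s = s * g) :
    ∀ n, n ≤ 13 → srch (gens.map toL) leaf n ((toL s).take (13 - n)) = true → leaf (toL s) = true := by
  intro n
  induction n with
  | zero =>
    intro _ h
    rwa [srch, List.take_of_length_le (by rw [toL_length])] at h
  | succ n ih =>
    intro hn h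
    rw [srch, List.all_eq_true] at h
    obtain ⟨j, hj⟩ : ∃ j : Fin 13, j.val = 13 - (n + 1) := ⟨⟨13 - (n + 1), by omega⟩, rfl⟩
    have ht : (toL s).take (13 - n) = (toL s).take j.val ++ [(s j).val] := by
      rw [show 13 - n = j.val + 1 by omega, List.take_add_one, ← toL_getD s j, List.getD_eq_getElem?_getD,
        List.getElem?_eq_getElem (by rw [toL_length]; exact j.isLt)]
      simp
    have := h (s j).val (List.mem_range.2 (s j).isLt)
    rw [← hj, Bool.or_eq_true, Bool.or_eq_true, ← ht, pok_take hs hg (by omega)] at this
    rcases this with (hc | hc) | hc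
    · exfalso
      rw [List.contains_iff_mem, List.mem_take_iff_getElem] at hc
      obtain ⟨i, hi, e⟩ := hc
      rw [toL_length] at hi
      simp only [toL, List.getElem_ofFn] at e
      have := congrArg Fin.val (s.injective (Fin.ext e))
      simp only at this
      omega
    · simp at hc
    · exact ih (by omega) hc

/-- The verdict on a full list. -/
def leaf (E : List (List Nat)) (ch : List (List (List Nat) × List (List Nat))) (s : List Nat) : Bool :=
  movL s % 4 != 0 || E.contains s || E.any (fun e => movL (cmpL s e) == 4 || movL (cmpL s e) == 12) ||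
    ch.any fun c => c.1.any fun g => c.2.all fun k =>
      (E ++ E.map (cmpL s)).any fun f => cmpL g f == cmpL k g

end Cfsg.Agent.S3298Lib
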