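import Cfsg.Agent.Lib.S3298.AltClosure
import Cfsg.Agent.Lib.S3298Fus.Entry

/-!
S3298: the signed permutations of six pairs as permutations of thirteen points, and the end of the
alternating branch from an embedded permutation group.
-/

set_option autoImplicit false
set_option maxRecDepth 100000

namespace Cfsg.Agent.S3298Lib

open Equiv Subgroup SylClasses S3298Fus

/-- The action on the doubled points. -/
def dbl : W6 →* Perm (Fin 6 × ZMod 2) where
  toFun a :=
    { toFun := fun x => (a.p x.1, x.2 + a.v (a.p x.1))
      invFun := fun x => (a.p.symm x.1, x.2 + a.v x.1)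
      left_inv := fun x => Prod.ext (a.p.symm_apply_apply _) (by
        show x.2 + a.v (a.p x.1) + a.v (a.p x.1) = x.2
        rw [add_assoc, CharTwo.add_self_eq_zero, add_zero])
      right_inv := fun x => Prod.ext (a.p.apply_symm_apply _) (by
        show x.2 + a.v x.1 + a.v (a.p (a.p.symm x.1)) = x.2
        rw [Equiv.apply_symm_apply, add_assoc, CharTwo.add_self_eq_zero, add_zero]) }
  map_one' := Equiv.ext fun x => Prod.ext rfl (add_zero _)
  map_mul' a b := Equiv.ext fun x => Prod.ext rfl (by
    show x.2 + (a * b).v ((a * b).p x.1) = x.2 + b.v (b.p x.1) + a.v (a.p (b.p x.1))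
    simp [add_comm, add_left_comm])

/-- Thirteen points: six pairs and one more. -/
def e13 : (Fin 6 × ZMod 2) ⊕ Fin 1 ≃ Fin 13 where
  toFun x := match x with
    | Sum.inl (i, c) => ⟨2 * i.val + c.val, by have := ZMod.val_lt c; omega⟩
    | Sum.inr _ => 12
  invFun n := if h : n.val < 12 then Sum.inl (⟨n.val / 2, by omega⟩, (n.val : ZMod 2)) else Sum.inr 0
  left_inv := by unfold Function.LeftInverse; decide
  right_inv := by unfold Function.RightInverse Function.LeftInverse; decide

/-- The standard embedding. -/
def stdW : W6 →* P13 :=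
  (e13.permCongrHom.toMonoidHom).comp ((Perm.sumCongrHom _ _).comp (dbl.prod 1))

/-- The standard embedding of the parity kernel. -/
def std : ↥W0 →* P13 := stdW.comp W0.subtype

theorem std_z0 : std z0 = tt := by decide +kernel

/-- The code of a model element over `xx`. -/
def ax : ↥W0 := ⟨W.fl ![1, 1, 0, 0, 0, 0], mem_W0.2 (by decide +kernel)⟩

/-- The code of a model element over `yy`. -/
def ay : ↥W0 := ⟨W.fl ![1, 1, 1, 1, 0, 0], mem_W0.2 (by decide +kernel)⟩

theorem std_ax : std ax = xx := by decide +kernel

theorem std_ay : std ay = yy := by decide +kernel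

theorem not_P27_ax : ¬Dat.P27 ax.1 := by decide +kernel

theorem not_P27_ay : ¬Dat.P27 ay.1 := by decide +kernel

variable {G : Type*} [Group G] [Finite G]

/-- The alternating subgroup or the stabiliser of the last point. -/
def altS (full : Bool) : Subgroup P13 :=
  if full then alternatingGroup (Fin 13) else alternatingGroup (Fin 13) ⊓ MulAction.stabilizer P13 (12 : Fin 13)

/-- The end of the alternating branch: what remains to be given is `S`, `ι` and the centraliser over `xx`. -/
theorem iso_of_embedding {d : Dat G} (hd : ∀ a, d.Fused a ↔ a * a = 1 ∧ Dat.P27 a.1) {full : Bool}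
    (ι : ↥(altS full) →* G) (hinj : Function.Injective ι)
    (hι : ∀ a, ∃ h : std a ∈ altS full, ι ⟨std a, h⟩ = d.emb a)
    (hx : ∀ r : ↥(altS full), r.1 = xx → centralizer ({ι r} : Set G) ≤ ι.range) :
    Nonempty (↥(altS full) ≃* G) := by
  have hmem : ∀ g, g ∈ altS full → Perm.sign g = 1 := by
    intro g hg
    cases full
    · exact Perm.mem_alternatingGroup.1 hg.1
    · exact Perm.mem_alternatingGroup.1 hg
  have hval : ∀ a (r : ↥(altS full)), r.1 = std a → ι r = d.emb a := by
    intro a r hr
    obtain ⟨h, e⟩ := hι a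
    rwa [show r = ⟨std a, h⟩ from Subtype.ext hr]
  refine ⟨AltIn.iso
    { S := altS full
      even := hmem
      stab := fun g hg h12 => by
        cases full
        · exact ⟨Perm.mem_alternatingGroup.2 hg, MulAction.mem_stabilizer_iff.2 h12⟩
        · exact Perm.mem_alternatingGroup.2 hg
      full := fun s hs h12 g hg => by
        cases full
        · exact absurd (MulAction.mem_stabilizer_iff.1 hs.2) h12
        · exact Perm.mem_alternatingGroup.2 hg
      emb := ι
      inj := hinj
      centT := fun r hr => by
        rw [hval z0 r (hr.trans std_z0.symm), ← d.range]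
        rintro _ ⟨a, rfl⟩
        obtain ⟨h, e⟩ := hι a
        exact ⟨_, e⟩
      centX := hx
      notX := fun r u hr hu g e => not_P27_ax ((hd ax).1 ⟨g, by
        rw [← hval ax u (hu.trans std_ax.symm), ← e, hval z0 r (hr.trans std_z0.symm)]⟩).2
      notY := fun r u hr hu g e => not_P27_ay ((hd ay).1 ⟨g, by
        rw [← hval ay u (hu.trans std_ay.symm), ← e, hval z0 r (hr.trans std_z0.symm)]⟩).2 }⟩

/-- The stabiliser of the last point is the alternating group of twelve points. -/
theorem iso_A12 : Nonempty (↥(alternatingGroup (Fin 12)) ≃* ↥(altS false)) := by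
  let f : Perm (Fin 12) →* P13 := Perm.extendDomainHom (finSuccAboveEquiv (12 : Fin 13))
  have hf : Function.Injective f := Perm.extendDomainHom_injective _
  have e : (alternatingGroup (Fin 12)).map f = altS false := by
    ext g
    constructor
    · rintro ⟨a, ha, rfl⟩
      refine ⟨Perm.mem_alternatingGroup.2 ?_, MulAction.mem_stabilizer_iff.2 ?_⟩
      · rw [← Perm.mem_alternatingGroup.1 ha]
        exact Perm.sign_extendDomain _ _
      · exact Perm.extendDomain_apply_not_subtype _ _ (by simp)
    · rintro ⟨hg, h12⟩
      replace h12 : g 12 = 12 := h12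
      have hp : ∀ x, g x ≠ 12 ↔ x ≠ 12 := fun x => by
        rw [not_iff_not]
        exact ⟨fun h => g.injective (h.trans h12.symm), fun h => h ▸ h12⟩
      let a : Perm (Fin 12) := (finSuccAboveEquiv (12 : Fin 13)).permCongr.symm (g.subtypePerm hp)
      have ha : f a = g := Equiv.ext fun x => by
        by_cases h : x = 12
        · subst h
          exact (Perm.extendDomain_apply_not_subtype _ _ (by simp)).trans h12.symm
        · show a.extendDomain (finSuccAboveEquiv (12 : Fin 13)) x = g x
          rw [Perm.extendDomain_apply_subtype (e := a) (f := finSuccAboveEquiv (12 : Fin 13)) h]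
          simp [a, Equiv.permCongr_symm, Equiv.permCongr_apply]
      refine ⟨a, Perm.mem_alternatingGroup.2 ?_, ha⟩
      rw [← Perm.sign_extendDomain a (finSuccAboveEquiv (12 : Fin 13))]
      exact (congrArg Perm.sign ha).trans (Perm.mem_alternatingGroup.1 hg)
  exact ⟨((alternatingGroup (Fin 12)).equivMapOfInjective f hf).trans (MulEquiv.subgroupCongr e)⟩

/-- The conclusion of the alternating branch. -/
theorem alt_end {d : Dat G} (hd : ∀ a, d.Fused a ↔ a * a = 1 ∧ Dat.P27 a.1) {full : Bool}
    (ι : ↥(altS full) →* G) (hinj : Function.Injective ι)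
    (hι : ∀ a, ∃ h : std a ∈ altS full, ι ⟨std a, h⟩ = d.emb a)
    (hx : ∀ r : ↥(altS full), r.1 = xx → centralizer ({ι r} : Set G) ≤ ι.range) :
    Nonempty (G ≃* ↥(alternatingGroup (Fin 12))) ∨ Nonempty (G ≃* ↥(alternatingGroup (Fin 13))) := by
  obtain ⟨e⟩ := iso_of_embedding hd ι hinj hι hx
  cases full
  · obtain ⟨e'⟩ := iso_A12
    exact Or.inl ⟨e.symm.trans e'.symm⟩
  · exact Or.inr ⟨e.symm.trans (MulEquiv.subgroupCongr (if_pos rfl))⟩

end Cfsg.Agent.S3298Lib
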